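import Groth.Agent.S0246
import Groth.Agent.NormalSch.Normalization
import Mathlib.AlgebraicGeometry.Morphisms.FlatMono
import Groth.Agent.WLocalLib.WeakEtaleScheme

/-!
# Covers of the generic point extending to a normal scheme
-/

set_option autoImplicit false
set_option backward.isDefEq.respectTransparency false

universe u

open CategoryTheory CategoryTheory.Limits AlgebraicGeometry

namespace Groth.Agent.NormEssIm

variable {X : Scheme.{u}} [IsIntegral X]

lemma subsingleton_spec (K : Type u) [Field K] : Subsingleton (Spec (CommRingCat.of K)) :=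
  inferInstanceAs (Subsingleton (PrimeSpectrum K))

lemma fromSpecStalk_generic (z : Spec X.functionField) :
    X.fromSpecStalk (genericPoint X) z = genericPoint X := by
  haveI := subsingleton_spec X.functionField
  rw [Subsingleton.elim z (IsLocalRing.closedPoint X.functionField)]
  exact Scheme.fromSpecStalk_closedPoint

/-- A finite etale map with one point over the generic point has connected source. -/
lemma connectedSpace_of_single {Y : Scheme.{u}} (p : Y ⟶ X) [IsFinite p] [Etale p] (y₀ : Y)
    (hy₀ : ∀ y, p y = genericPoint X → y = y₀) : ConnectedSpace Y := by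
  refine connectedSpace_iff_clopen.mpr ⟨⟨y₀⟩, fun s hs => ?_⟩
  have key : ∀ s : Set Y, IsClopen s → s.Nonempty → y₀ ∈ s := by
    intro s hs hne
    have h1 : p '' s = Set.univ := IsClopen.eq_univ
      ⟨p.isClosedMap _ hs.1, p.isOpenMap _ hs.2⟩ (hne.image _)
    obtain ⟨y, hy, hpy⟩ := h1.ge (Set.mem_univ (genericPoint X))
    exact hy₀ y hpy ▸ hy
  rcases s.eq_empty_or_nonempty with rfl | hne
  · exact Or.inl rfl
  · refine Or.inr (Set.compl_empty_iff.mp ?_)
    by_contra h
    exact key _ hs.compl (Set.nonempty_iff_ne_empty.mpr h) (key s hs hne)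

variable (L : Type u) [Field L] (φ : X.functionField →+* L)
  (g : Spec (CommRingCat.of L) ⟶ X)
  (hg : g = Spec.map (CommRingCat.ofHom φ) ≫ X.fromSpecStalk (genericPoint X))
  [QuasiCompact g] [QuasiSeparated g]

include hg in
/-- If the finite extension extends to a finite etale cover, the normalization is finite etale. -/
theorem of_extends (hX : Pi1.IsNormalScheme X) (Y : FEt.Cat X)
    (ε : Spec (CommRingCat.of L) ≅ pullback Y.hom (X.fromSpecStalk (genericPoint X)))
    (hε : ε.hom ≫ pullback.snd _ _ = Spec.map (CommRingCat.ofHom φ)) :
    Etale g.fromNormalization ∧ IsFinite g.fromNormalization := by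
  let p : Y.left ⟶ X := Y.hom
  haveI : IsFinite p := Y.prop.1
  haveI : Etale p := Y.prop.2
  let t : Spec (CommRingCat.of L) ⟶ Y.left := ε.hom ≫ pullback.fst p _
  have ht : t ≫ p = g := by
    rw [hg, ← hε, Category.assoc, Category.assoc, ← pullback.condition]
  haveI : IsPreimmersion t := inferInstance
  haveI := subsingleton_spec L
  let pt : Spec (CommRingCat.of L) := IsLocalRing.closedPoint L
  have hy₀ : ∀ y, p y = genericPoint X → y = t pt := by
    intro y hy
    obtain ⟨z, hz, -⟩ := Scheme.Pullback.exists_preimage_pullback (f := p)
      (g := X.fromSpecStalk (genericPoint X)) y (IsLocalRing.closedPoint X.functionField)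
      (by rw [hy, fromSpecStalk_generic])
    rw [← hz, Scheme.Hom.comp_apply, show z = ε.hom pt from ?_]
    rw [← ε.hom.homeomorph.apply_symm_apply z]
    exact congrArg ε.hom (Subsingleton.elim _ _)
  haveI := connectedSpace_of_single p (t pt) hy₀
  obtain ⟨hYi, hYn⟩ := Groth.Agent.S0246.result hX Y
  haveI := hYi
  let t' := g.toNormalization
  let d : g.normalization ⟶ Y.left := g.normalizationDesc t p ht.symm
  haveI : IsIntegralHom d := inferInstanceAs (IsIntegralHom (g.normalizationDesc t p ht.symm))
  have htd : t' ≫ d = t := g.toNormalization_normalizationDesc t p ht.symm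
  have hd : d ≫ p = g.fromNormalization := g.normalizationDesc_comp t p ht.symm
  have hgenY : genericPoint Y.left = t pt := by
    refine hy₀ _ (((genericPoint_spec X).specializes trivial).antisymm ?_).eq.symm
    have h := ((genericPoint_spec Y.left).specializes (y := t pt) trivial).map p.continuous
    rw [← Scheme.Hom.comp_apply, ht, hg, Scheme.Hom.comp_apply] at h
    erw [fromSpecStalk_generic] at h
    exact h
  have hN : t' pt = genericPoint g.normalization := NormalSch.generic_normalization g
  have hgen : d (genericPoint g.normalization) = genericPoint Y.left := by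
    rw [← hN, ← Scheme.Hom.comp_apply, htd, hgenY]
  have hsurj : Function.Surjective (d.stalkMap (genericPoint g.normalization)) := by
    rw [← hN]
    intro a
    haveI : IsPreimmersion (t' ≫ d) := by rw [htd]; infer_instance
    obtain ⟨b, hb⟩ := (t' ≫ d).stalkMap_surjective pt (t'.stalkMap pt a)
    refine ⟨b, ?_⟩
    rw [Scheme.Hom.stalkMap_comp, ConcreteCategory.comp_apply] at hb
    have hF : IsField (g.normalization.presheaf.stalk (t' pt)) :=
      hN ▸ Field.toIsField g.normalization.functionField
    letI := hF.toField
    exact RingHom.injective (t'.stalkMap pt).hom hb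
  haveI := NormalSch.isIso_of_integral_birational hYn d hgen hsurj
  rw [← hd]
  exact ⟨inferInstance, inferInstance⟩

include hg in
/-- If the normalization is finite etale, it extends the extension. -/
theorem extends_of [Etale g.fromNormalization] [IsFinite g.fromNormalization]
    (hφ : φ.IsIntegral) :
    ∃ ε : Spec (CommRingCat.of L) ≅
        pullback g.fromNormalization (X.fromSpecStalk (genericPoint X)),
      ε.hom ≫ pullback.snd _ _ = Spec.map (CommRingCat.ofHom φ) := by
  haveI := subsingleton_spec L
  let t' := g.toNormalization
  let pt : Spec (CommRingCat.of L) := IsLocalRing.closedPoint L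
  haveI hfinφ : IsIntegralHom (Spec.map (CommRingCat.ofHom φ)) := IsIntegralHom.SpecMap_iff.mpr hφ
  haveI : IsPreimmersion t' := by
    haveI : SurjectiveOnStalks t' := ⟨fun x a => by
      obtain rfl : x = IsLocalRing.closedPoint L := Subsingleton.elim _ _
      have h := NormalSch.ran_toNormalization φ g hg
      have hmem : ((stalkClosedPointIso (CommRingCat.of L)).hom a : L) ∈
          (CompleteCurve.ran t' : Set L) := by
        rw [h]; exact hφ _
      obtain ⟨b, hb⟩ := hmem
      refine ⟨b, ?_⟩
      exact ((ConcreteCategory.isIso_iff_bijective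
        (stalkClosedPointIso (CommRingCat.of L)).hom).mp inferInstance).1 hb⟩
    exact { isEmbedding := Topology.IsEmbedding.of_subsingleton _ }
  let q : Spec (CommRingCat.of L) ⟶
      pullback g.fromNormalization (X.fromSpecStalk (genericPoint X)) :=
    pullback.lift t' (Spec.map (CommRingCat.ofHom φ))
      (by rw [g.toNormalization_fromNormalization, hg])
  have hq1 : q ≫ pullback.fst _ _ = t' := pullback.lift_fst _ _ _
  have hq2 : q ≫ pullback.snd _ _ = Spec.map (CommRingCat.ofHom φ) := pullback.lift_snd _ _ _
  haveI : IsPreimmersion (q ≫ pullback.fst g.fromNormalization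
      (X.fromSpecStalk (genericPoint X))) := by rw [hq1]; infer_instance
  haveI : IsPreimmersion q := .of_comp q (pullback.fst g.fromNormalization _)
  have hsub : ∀ z, z = q pt := by
    intro z
    refine (pullback.fst g.fromNormalization
      (X.fromSpecStalk (genericPoint X))).isEmbedding.injective ?_
    rw [← Scheme.Hom.comp_apply q, hq1]
    have h : pullback.fst g.fromNormalization (X.fromSpecStalk (genericPoint X)) z ∈
        g.fromNormalization ⁻¹' {genericPoint X} := by
      rw [Set.mem_preimage, Set.mem_singleton_iff, ← Scheme.Hom.comp_apply, pullback.condition,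
        Scheme.Hom.comp_apply, fromSpecStalk_generic]
    rw [NormalSch.preimage_generic φ g hg, Set.mem_singleton_iff] at h
    exact h.trans (NormalSch.generic_normalization g).symm
  haveI : Surjective q := ⟨fun z => ⟨pt, (hsub z).symm⟩⟩
  haveI : Subsingleton ↥(pullback g.fromNormalization (X.fromSpecStalk (genericPoint X))) :=
    ⟨fun a b => (hsub a).trans (hsub b).symm⟩
  haveI : IsClosedImmersion q := IsClosedImmersion.of_isPreimmersion q
    (by rw [q.surjective.range_eq]; exact isClosed_univ)
  haveI : IsReduced (pullback g.fromNormalization (X.fromSpecStalk (genericPoint X))) :=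
    WLocalLib.isReduced_of_weaklyEtale_scheme (pullback.snd g.fromNormalization (X.fromSpecStalk (genericPoint X)))
  haveI : IsIso q := isIso_of_isClosedImmersion_of_surjective q
  exact ⟨asIso q, hq2⟩

end Groth.Agent.NormEssIm
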